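import Mathlib
import Groth.Agent.CMSeqLib.Basic
import Groth.Agent.LciH1Lib.Basic
import Groth.Agent.TorRegLib.Basic
import Groth.Agent.FlatCx.TorBC

/-!
# Sequences of the expected codimension in Cohen–Macaulay local rings
-/

set_option autoImplicit false
set_option linter.style.haveILetI false

universe u

open RingTheory.Sequence IsLocalRing CategoryTheory CategoryTheory.Limits

noncomputable section

namespace Groth.Agent.CMInterLib

variable {A : Type u} [CommRing A] [IsLocalRing A] [IsNoetherianRing A]

/-- A list cutting down the dimension by its length is regular on a Cohen–Macaulay module. -/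
theorem isWeaklyRegular_of_supportDim_le :
    ∀ (rs : List A) (M : Type u) [AddCommGroup M] [Module A M] [Module.Finite A M],
      LocCoh.IsCohenMacaulayModule A M → (∀ x ∈ rs, x ∈ maximalIdeal A) →
      Module.supportDim A (M ⧸ (Ideal.ofList rs • ⊤ : Submodule A M)) + (rs.length : WithBot ℕ∞) ≤ Module.supportDim A M →
      IsWeaklyRegular M rs
  | [], M, _, _, _, _, _, _ => IsWeaklyRegular.nil A M
  | x :: rs, M, _, _, _, hM, hm, h => by
    have hx := hm x List.mem_cons_self
    have hrs : ∀ y ∈ rs, y ∈ maximalIdeal A := fun y hy => hm y (List.mem_cons_of_mem _ hy)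
    haveI := CMSeqLib.nontrivial_of_cm hM
    haveI := Groth.Agent.FlatDepth.nontrivial_quotSMulTop (M := M) hx
    rw [Module.supportDim_eq_of_equiv (Submodule.quotOfListConsSMulTopEquivQuotSMulTopInner M x rs),
      List.length_cons, Nat.cast_add, Nat.cast_one] at h
    have h1 := CMSeqLib.supportDim_quot_add_length_le (A := A) (M := QuotSMulTop x M) rs hrs
    obtain ⟨d, hd⟩ := CMSeqLib.exists_supportDim_eq (A := A) M
    obtain ⟨d', hd'⟩ := CMSeqLib.exists_supportDim_eq (A := A) (QuotSMulTop x M)
    have h2 : Module.supportDim A (QuotSMulTop x M) + 1 ≤ Module.supportDim A M := by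
      refine le_trans ?_ h
      rw [← add_assoc]
      exact add_le_add_left h1 1
    have hreg := CMSeqLib.isSMulRegular_of_supportDim_drop hM h2
    refine (isWeaklyRegular_cons_iff M x rs).2 ⟨hreg, ?_⟩
    refine isWeaklyRegular_of_supportDim_le rs _ (CMSeqLib.isCohenMacaulayModule_quotSMulTop hM hx hreg) hrs ?_
    have h3 := Module.supportDim_quotSMulTop_succ_eq_supportDim hreg hx
    rw [← h3, ← add_assoc, hd'] at h
    rw [hd']
    generalize Module.supportDim A (QuotSMulTop x M ⧸ (Ideal.ofList rs • ⊤ : Submodule A (QuotSMulTop x M))) = e at h ⊢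
    induction e using WithBot.recBotCoe with
    | bot => rw [WithBot.bot_add]; exact bot_le
    | coe e =>
      induction e using ENat.recTopCoe with
      | top => exact absurd h (by norm_cast)
      | coe e => norm_cast at h ⊢; omega

/-- The dimension of the quotient by an ideal all of whose primes have large height. -/
theorem ringKrullDim_quotient_add_le {R : Type u} [CommRing R] {J : Ideal R} (hJ : J ≠ ⊤) {r : ℕ}
    (h : ∀ P : PrimeSpectrum R, J ≤ P.asIdeal → (r : ℕ∞) ≤ Order.height P) :
    ringKrullDim (R ⧸ J) + (r : WithBot ℕ∞) ≤ ringKrullDim R := by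
  haveI : Nonempty (PrimeSpectrum.zeroLocus (J : Set R)) := by
    obtain ⟨m, hm, hle⟩ := Ideal.exists_le_maximal J hJ
    exact ⟨⟨⟨m, hm.isPrime⟩, hle⟩⟩
  rw [ringKrullDim_quotient, Order.krullDim_eq_iSup_length]
  haveI : Nonempty (PrimeSpectrum R) := ⟨(Classical.arbitrary (PrimeSpectrum.zeroLocus (J : Set R))).1⟩
  rw [ringKrullDim, Order.krullDim_eq_iSup_height_of_nonempty]
  rw [show (r : WithBot ℕ∞) = ((r : ℕ∞) : WithBot ℕ∞) from rfl, ← WithBot.coe_add, WithBot.coe_le_coe,
    ENat.iSup_add]
  refine iSup_le fun p => ?_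
  let q : LTSeries (PrimeSpectrum R) := p.map Subtype.val fun a b hab => hab
  have hr : (r : ℕ∞) ≤ Order.height q.head := h _ p.head.2
  have key : ∀ s : LTSeries (PrimeSpectrum R), (s.length : ℕ∞) + Order.height s.head ≤ Order.height s.last := by
    intro s
    obtain ⟨n, f, hf⟩ := s
    induction n with
    | zero => simp [RelSeries.head, RelSeries.last]
    | succ n ih =>
      have h1 := ih (f ∘ Fin.castSucc) fun i => hf i.castSucc
      have h2 := Order.height_add_one_le (a := f (Fin.last n).castSucc) (b := f (Fin.last n).succ) (hf (Fin.last n))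
      simp only [RelSeries.head, RelSeries.last, Function.comp_apply, Fin.castSucc_zero] at h1 ⊢
      refine le_trans ?_ (le_trans (add_le_add_right h1 1) ((add_comm _ _).trans_le h2))
      rw [Nat.cast_add, Nat.cast_one, add_right_comm, add_comm]
  refine le_trans ?_ (le_iSup (fun x : PrimeSpectrum R => Order.height x) q.last)
  exact le_trans (add_le_add_right hr _) (key q)

/-- In a Cohen–Macaulay local ring a list of the expected codimension is regular. -/
theorem isWeaklyRegular_of_height (hA : LocCoh.IsCohenMacaulayModule A A) (rs : List A)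
    (hm : ∀ x ∈ rs, x ∈ maximalIdeal A)
    (h : ∀ P : PrimeSpectrum A, Ideal.ofList rs ≤ P.asIdeal → (rs.length : ℕ∞) ≤ Order.height P) :
    IsWeaklyRegular A rs := by
  refine isWeaklyRegular_of_supportDim_le rs A hA hm ?_
  have hne : Ideal.ofList rs ≠ ⊤ := ne_top_of_le_ne_top (maximalIdeal.isMaximal A).ne_top (Ideal.span_le.2 hm)
  have e : (A ⧸ (Ideal.ofList rs • ⊤ : Submodule A A)) ≃ₗ[A] A ⧸ Ideal.ofList rs :=
    Submodule.quotEquivOfEq _ _ (by simp)
  rw [Module.supportDim_eq_of_equiv e, Module.supportDim_quotient_eq_ringKrullDim, Module.supportDim_self_eq_ringKrullDim]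
  exact ringKrullDim_quotient_add_le hne h

/-- `Tor` vanishing for two transversal regular sequences. -/
theorem subsingleton_tor (ts rs : List A) (hm : ∀ x ∈ rs, x ∈ maximalIdeal A)
    (hrs : IsWeaklyRegular A rs) (h : IsWeaklyRegular A (ts ++ rs)) (i : ℕ) :
    Subsingleton (DRing.Tor A (i + 1) (A ⧸ Ideal.ofList rs) (A ⧸ Ideal.ofList ts)) := by
  have h2 := ((isWeaklyRegular_append_iff A ts rs).1 h).2
  have e : (A ⧸ (Ideal.ofList ts • ⊤ : Submodule A A)) ≃ₗ[A] A ⧸ Ideal.ofList ts :=
    Submodule.quotEquivOfEq _ _ (by simp)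
  have hN : IsWeaklyRegular (A ⧸ Ideal.ofList ts) rs := (e.isWeaklyRegular_congr rs).1 h2
  let P := projectiveResolution (ModuleCat.of A (A ⧸ Ideal.ofList ts))
  have hz := (TorRegLib.isWeaklyRegular_iff P rs hrs hm).1 hN (i + 1) (by omega)
  exact ModuleCat.subsingleton_of_isZero (hz.of_iso (TorLib.torIso P (ModuleCat.of A (A ⧸ Ideal.ofList rs)) (i + 1)))

end Groth.Agent.CMInterLib
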