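import Mathlib
import Groth.Agent.CMInterLib.Ring
import Groth.Agent.CILib.KoszulCalc
import Groth.Agent.CILib.KoszulRegular
import Groth.Agent.RegIdealLib.Immersion
import Groth.Agent.RelDivLib.FlatBC
import Groth.Agent.TorLib.Symm
import Groth.Prelude.Def_RegImm
import Groth.Prelude.Def_CAlg

/-!
# Intersections of regular immersions of the expected codimension in Cohen–Macaulay schemes
-/

set_option autoImplicit false
set_option linter.style.haveILetI false
set_option backward.isDefEq.respectTransparency false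

universe u

open CategoryTheory CategoryTheory.Limits AlgebraicGeometry RingTheory.Sequence Groth.Agent

noncomputable section

namespace Groth.Agent.CMInterLib

variable {X Y Z : Scheme.{u}}

theorem isClosedImmersion_res (i : Y ⟶ X) [IsClosedImmersion i] (U : X.Opens) : IsClosedImmersion (i ∣_ U) :=
  IsZariskiLocalAtTarget.restrict ‹IsClosedImmersion i› U

theorem primeIdealOf_fromSpec {W : X.Opens} (hW : IsAffineOpen W) (p : Spec Γ(X, W)) (h : hW.fromSpec p ∈ W) :
    hW.primeIdealOf ⟨hW.fromSpec p, h⟩ = p :=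
  hW.fromSpec.isOpenEmbedding.injective (hW.fromSpec_primeIdealOf _)

theorem fromSpec_mem {U : X.Opens} (hU : IsAffineOpen U) (q : Spec Γ(X, U)) : hU.fromSpec q ∈ U := by
  rw [← SetLike.mem_coe, ← hU.range_fromSpec]
  exact ⟨q, rfl⟩

/-- A point of an affine open lies on a closed subscheme iff its prime contains the ideal. -/
theorem mem_range_iff (i : Y ⟶ X) [IsClosedImmersion i] {U : X.Opens} (hU : IsAffineOpen U) (q : Spec Γ(X, U)) :
    hU.fromSpec q ∈ Set.range i ↔ RingHom.ker (i.app U).hom ≤ q.asIdeal := by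
  obtain ⟨haff, hs⟩ := RegIdealLib.affine_and_surjective i hU (isClosedImmersion_res i U)
  constructor
  · rintro ⟨y, hy⟩
    have hyU : i y ∈ U := hy ▸ fromSpec_mem hU q
    have hq : Spec.map (i.app U) (haff.primeIdealOf ⟨y, hyU⟩) = q := by
      refine hU.fromSpec.isOpenEmbedding.injective ?_
      rw [← Scheme.Hom.comp_apply, Scheme.Hom.app_eq_appLE, hU.SpecMap_appLE_fromSpec i haff le_rfl,
        Scheme.Hom.comp_apply, haff.fromSpec_primeIdealOf]
      exact hy
    rw [← hq]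
    exact fun a ha => (show (i.app U).hom a ∈ (haff.primeIdealOf ⟨y, hyU⟩).asIdeal by
      rw [RingHom.mem_ker.1 ha]; exact zero_mem _)
  · intro hQ
    let p : Spec Γ(Y, i ⁻¹ᵁ U) := ⟨q.asIdeal.map (i.app U).hom, Ideal.map_isPrime_of_surjective hs hQ⟩
    have hpq : Spec.map (i.app U) p = q := PrimeSpectrum.ext (by
      show (q.asIdeal.map (i.app U).hom).comap (i.app U).hom = q.asIdeal
      rw [Ideal.comap_map_of_surjective _ hs, ← RingHom.ker_eq_comap_bot, sup_eq_left.2 hQ])
    refine ⟨haff.fromSpec p, ?_⟩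
    rw [← hpq, ← Scheme.Hom.comp_apply, ← Scheme.Hom.comp_apply, Scheme.Hom.app_eq_appLE,
      hU.SpecMap_appLE_fromSpec i haff le_rfl]

/-- The ideal of a closed subscheme in a local ring, computed on any affine neighbourhood. -/
theorem map_germ_eq (i : Y ⟶ X) [IsClosedImmersion i] {U V : X.Opens} (hU : IsAffineOpen U) (hV : IsAffineOpen V)
    (x : X) (hxU : x ∈ U) (hxV : x ∈ V) (hx : x ∈ Set.range i) :
    (RingHom.ker (i.app U).hom).map (X.presheaf.germ U x hxU).hom =
      (RingHom.ker (i.app V).hom).map (X.presheaf.germ V x hxV).hom := by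
  obtain ⟨y, rfl⟩ := hx
  rw [← RegIdealLib.ker_stalkMap i hU (isClosedImmersion_res i U) y hxU,
    ← RegIdealLib.ker_stalkMap i hV (isClosedImmersion_res i V) y hxV]

theorem flat_germ {U : X.Opens} (hU : IsAffineOpen U) (x : X) (hx : x ∈ U) :
    (X.presheaf.germ U x hx).hom.Flat := by
  letI : Algebra Γ(X, U) (X.presheaf.stalk x) := TopCat.Presheaf.algebra_section_stalk X.presheaf ⟨x, hx⟩
  haveI := hU.isLocalization_stalk ⟨x, hx⟩
  exact RingHom.flat_algebraMap_iff.2 (IsLocalization.flat (X.presheaf.stalk x) (hU.primeIdealOf ⟨x, hx⟩).asIdeal.primeCompl)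

/-- Regular generators of the ideal in a local ring. -/
theorem exists_gens (i : Y ⟶ X) [IsClosedImmersion i] {a : ℕ}
    (hi : RegImm.IsRegularImmersionOfCodim RegImm.Kind.regular a i) {U : X.Opens} (hU : IsAffineOpen U) (x : X)
    (hxU : x ∈ U) (hx : x ∈ Set.range i) :
    ∃ rs : List (X.presheaf.stalk x), rs.length = a ∧ IsWeaklyRegular (X.presheaf.stalk x) rs ∧
      (∀ r ∈ rs, r ∈ IsLocalRing.maximalIdeal (X.presheaf.stalk x)) ∧
      (RingHom.ker (i.app U).hom).map (X.presheaf.germ U x hxU).hom = Ideal.ofList rs := by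
  obtain ⟨y, rfl⟩ := hx
  obtain ⟨V, hyV, hc, rs, hlen, hrs, hker⟩ := hi.2 y
  let g := (X.presheaf.germ V.1 (i y) hyV).hom
  have heq : (RingHom.ker (i.app U).hom).map (X.presheaf.germ U (i y) hxU).hom = Ideal.ofList (rs.map g) := by
    rw [map_germ_eq i hU V.2 (i y) hxU hyV ⟨y, rfl⟩, hker, Ideal.map_ofList]
  refine ⟨rs.map g, by simpa using hlen, ?_, fun r hr => ?_, heq⟩
  · letI := g.toAlgebra
    haveI : Module.Flat Γ(X, V.1) (X.presheaf.stalk (i y)) := flat_germ V.2 (i y) hyV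
    exact IsWeaklyRegular.of_flat hrs.toIsWeaklyRegular
  · have h1 : r ∈ Ideal.ofList (rs.map g) := Ideal.subset_span hr
    rw [← heq, ← RegIdealLib.ker_stalkMap i hU (isClosedImmersion_res i U) y hxU] at h1
    exact IsLocalRing.le_maximalIdeal (RingHom.ker_ne_top _) h1

variable [IsLocallyNoetherian X] (iY : Y ⟶ X) (iZ : Z ⟶ X) [IsClosedImmersion iY] [IsClosedImmersion iZ] {a b : ℕ}

/-- Local generators at a point of the intersection. -/
theorem exists_transversal (hCM : ∀ x : X, LocCoh.IsCohenMacaulayLocalRing (X.presheaf.stalk x))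
    (hY : RegImm.IsRegularImmersionOfCodim RegImm.Kind.regular a iY)
    (hZ : RegImm.IsRegularImmersionOfCodim RegImm.Kind.regular b iZ)
    (hcodim : ∀ w : ↥(pullback iY iZ), ((a + b : ℕ) : WithBot ℕ∞) ≤
      ringKrullDim (X.presheaf.stalk ((pullback.fst iY iZ ≫ iY).base w)))
    {U : X.Opens} (hU : IsAffineOpen U) (x : X) (hxU : x ∈ U) (hxY : x ∈ Set.range iY) (hxZ : x ∈ Set.range iZ) :
    ∃ rs ts : List (X.presheaf.stalk x), rs.length = a ∧ ts.length = b ∧
      IsWeaklyRegular (X.presheaf.stalk x) rs ∧ IsWeaklyRegular (X.presheaf.stalk x) (ts ++ rs) ∧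
      (∀ r ∈ ts ++ rs, r ∈ IsLocalRing.maximalIdeal (X.presheaf.stalk x)) ∧
      (RingHom.ker (iY.app U).hom).map (X.presheaf.germ U x hxU).hom = Ideal.ofList rs ∧
      (RingHom.ker (iZ.app U).hom).map (X.presheaf.germ U x hxU).hom = Ideal.ofList ts := by
  obtain ⟨rs, hrl, hrs, hrm, hI⟩ := exists_gens iY hY hU x hxU hxY
  obtain ⟨ts, htl, -, htm, hJ⟩ := exists_gens iZ hZ hU x hxU hxZ
  have hm : ∀ r ∈ ts ++ rs, r ∈ IsLocalRing.maximalIdeal (X.presheaf.stalk x) := fun r hr =>
    (List.mem_append.1 hr).elim (htm r) (hrm r)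
  haveI := hCM x
  haveI : IsNoetherianRing (X.presheaf.stalk x) := inferInstance
  refine ⟨rs, ts, hrl, htl, hrs, ?_, hm, hI, hJ⟩
  refine isWeaklyRegular_of_height (LocCoh.IsCohenMacaulayLocalRing.supportDim_eq_depth) _ hm fun P hP => ?_
  rw [List.length_append, hrl, htl, ← PrimeSpectrum.height_eq_orderHeight]
  letI : Algebra Γ(X, U) (X.presheaf.stalk x) := TopCat.Presheaf.algebra_section_stalk X.presheaf ⟨x, hxU⟩
  haveI := hU.isLocalization_stalk ⟨x, hxU⟩
  rw [← IsLocalization.height_under (hU.primeIdealOf ⟨x, hxU⟩).asIdeal.primeCompl P.asIdeal]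
  let p : Spec Γ(X, U) := PrimeSpectrum.comap (algebraMap Γ(X, U) (X.presheaf.stalk x)) P
  rw [Ideal.ofList_append, sup_le_iff, ← hI, ← hJ] at hP
  have hpY : hU.fromSpec p ∈ Set.range iY := (mem_range_iff iY hU p).2 (Ideal.map_le_iff_le_comap.1 hP.2)
  have hpZ : hU.fromSpec p ∈ Set.range iZ := (mem_range_iff iZ hU p).2 (Ideal.map_le_iff_le_comap.1 hP.1)
  obtain ⟨y, hy⟩ := hpY
  obtain ⟨z, hz⟩ := hpZ
  obtain ⟨w, hw, -⟩ := Scheme.Pullback.exists_preimage_pullback (f := iY) (g := iZ) y z (hy.trans hz.symm)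
  have h := hcodim w
  have hwp : (pullback.fst iY iZ ≫ iY).base w = hU.fromSpec p := by
    rw [← hy, ← hw]
    rfl
  rw [hwp] at h
  letI : Algebra Γ(X, U) (X.presheaf.stalk (hU.fromSpec p)) :=
    TopCat.Presheaf.algebra_section_stalk X.presheaf ⟨hU.fromSpec p, fromSpec_mem hU p⟩
  haveI := hU.isLocalization_stalk ⟨hU.fromSpec p, fromSpec_mem hU p⟩
  rw [IsLocalization.AtPrime.ringKrullDim_eq_height (hU.primeIdealOf ⟨hU.fromSpec p, fromSpec_mem hU p⟩).asIdeal,
    primeIdealOf_fromSpec hU p] at h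
  rw [add_comm b a]
  exact WithBot.coe_le_coe.1 h

theorem regularImmersion_inter (hCM : ∀ x : X, LocCoh.IsCohenMacaulayLocalRing (X.presheaf.stalk x))
    (hY : RegImm.IsRegularImmersionOfCodim RegImm.Kind.regular a iY)
    (hZ : RegImm.IsRegularImmersionOfCodim RegImm.Kind.regular b iZ)
    (hcodim : ∀ w : ↥(pullback iY iZ), ((a + b : ℕ) : WithBot ℕ∞) ≤
      ringKrullDim (X.presheaf.stalk ((pullback.fst iY iZ ≫ iY).base w))) :
    RegImm.IsRegularImmersionOfCodim RegImm.Kind.regular (a + b) (pullback.fst iY iZ ≫ iY) := by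
  refine ⟨inferInstance, fun w => ?_⟩
  set i := pullback.fst iY iZ ≫ iY with hi_def
  obtain ⟨_, ⟨U, hU, rfl⟩, hxU, -⟩ :=
    X.isBasis_affineOpens.exists_subset_of_mem_open (Set.mem_univ (i w)) isOpen_univ
  have hxY : i w ∈ Set.range iY := ⟨pullback.fst iY iZ w, rfl⟩
  have hxZ : i w ∈ Set.range iZ := ⟨pullback.snd iY iZ w, by rw [← Scheme.Hom.comp_apply, hi_def, pullback.condition]⟩
  obtain ⟨rs, ts, hrl, htl, -, hreg, hm, hI, hJ⟩ := exists_transversal iY iZ hCM hY hZ hcodim hU (i w) hxU hxY hxZ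
  haveI := hCM (i w)
  haveI : IsNoetherianRing (X.presheaf.stalk (i w)) := inferInstance
  have hreg' : IsRegular (X.presheaf.stalk (i w)) (ts ++ rs) := ⟨hreg, by
    rw [smul_eq_mul, Ideal.mul_top]
    exact (ne_top_of_le_ne_top (IsLocalRing.maximalIdeal.isMaximal _).ne_top (Ideal.span_le.2 hm)).symm⟩
  letI : Algebra Γ(X, U) (X.presheaf.stalk (i w)) := TopCat.Presheaf.algebra_section_stalk X.presheaf ⟨i w, hxU⟩
  haveI := hU.isLocalization_stalk ⟨i w, hxU⟩
  haveI : IsNoetherianRing Γ(X, U) := IsLocallyNoetherian.component_noetherian ⟨U, hU⟩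
  let q := (hU.primeIdealOf ⟨i w, hxU⟩).asIdeal
  obtain ⟨f, hf, hfspan⟩ := RegIdealLib.exists_numerators (R := Γ(X, U)) q.primeCompl hreg'
  have hflen : f.length = a + b := by
    have hne : Ideal.ofList (ts ++ rs) ≠ ⊤ :=
      ne_top_of_le_ne_top (IsLocalRing.maximalIdeal.isMaximal _).ne_top (Ideal.span_le.2 hm)
    have h1 := CILib.isKoszulRegularSeq_of_isWeaklyRegular _ hf.toIsWeaklyRegular
    have h2 := CILib.isKoszulRegularSeq_of_isWeaklyRegular _ hreg
    have l1 := CILib.length_le_of_ofList_eq h1 hfspan.symm (hfspan ▸ hne)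
    have l2 := CILib.length_le_of_ofList_eq h2 hfspan hne
    simp only [List.length_map, List.length_append, hrl, htl] at l1 l2
    omega
  let K := RingHom.ker (i.app U).hom
  have hc : IsClosedImmersion (i ∣_ U) := isClosedImmersion_res i U
  have hK : K = RingHom.ker (iY.app U).hom ⊔ RingHom.ker (iZ.app U).hom := by
    obtain ⟨haffY, hsY⟩ := RegIdealLib.affine_and_surjective iY hU (isClosedImmersion_res iY U)
    obtain ⟨-, hk⟩ := RelDivLib.closed_and_ker_pullback (IsPullback.of_hasPullback iY iZ).flip hU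
      (isClosedImmersion_res iZ U) haffY (le_refl (iY ⁻¹ᵁ U))
    rw [← Scheme.Hom.app_eq_appLE] at hk
    show RingHom.ker (i.app U).hom = _
    rw [show (i.app U).hom = ((pullback.fst iY iZ).app (iY ⁻¹ᵁ U)).hom.comp (iY.app U).hom from
      congrArg CommRingCat.Hom.hom (Scheme.Hom.comp_app (pullback.fst iY iZ) iY U), ← RingHom.comap_ker, hk,
      Ideal.comap_map_of_surjective _ hsY, ← RingHom.ker_eq_comap_bot, sup_comm]
  have hKmap : K.map (algebraMap Γ(X, U) (X.presheaf.stalk (i w))) =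
      Ideal.ofList (f.map (algebraMap Γ(X, U) (X.presheaf.stalk (i w)))) := by
    rw [hfspan, Ideal.ofList_append, ← hI, ← hJ, hK, Ideal.map_sup, sup_comm]
    rfl
  have hKq : K ≤ q := fun r hr => by
    by_contra hn
    have hu := IsLocalization.map_units (X.presheaf.stalk (i w)) (⟨r, hn⟩ : q.primeCompl)
    have h1 := Ideal.mem_map_of_mem (algebraMap Γ(X, U) (X.presheaf.stalk (i w))) hr
    rw [hKmap, hfspan] at h1
    exact IsLocalRing.maximalIdeal.isMaximal _ |>.ne_top
      (Ideal.eq_top_of_isUnit_mem _ (Ideal.span_le.2 hm h1) hu)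
  let e := IsLocalization.algEquiv q.primeCompl (X.presheaf.stalk (i w)) (Localization.AtPrime q)
  have hmap : ∀ {O' O'' : Type u} [CommRing O'] [CommRing O''] [Algebra Γ(X, U) O'] [Algebra Γ(X, U) O'']
      (e : O' ≃ₐ[Γ(X, U)] O''), (f.map (algebraMap Γ(X, U) O')).map e = f.map (algebraMap Γ(X, U) O'') := fun e => by
    rw [List.map_map]
    exact List.map_congr_left fun a _ => e.commutes a
  have hwr : IsWeaklyRegular (Localization.AtPrime q) (f.map (algebraMap Γ(X, U) (Localization.AtPrime q))) := by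
    rw [← hmap e]
    exact (e.toRingEquiv.toAddEquiv.isWeaklyRegular_congr (List.forall₂_map_right_iff.mpr
      (List.forall₂_same.mpr fun r _ x => map_mul e r x))).1 hf.toIsWeaklyRegular
  have hspanq : Ideal.ofList (f.map (algebraMap Γ(X, U) (Localization.AtPrime q))) =
      K.map (algebraMap Γ(X, U) (Localization.AtPrime q)) := by
    rw [← e.toAlgHom.comp_algebraMap, ← Ideal.map_map, hKmap, Ideal.map_ofList]
    congr 1
    rw [List.map_map]
    rfl
  obtain ⟨g, hgq, hgreg, hgspan⟩ := FerrVasc.exists_regular_away (p := q) K hKq f hspanq hwr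
  have hwg : i w ∈ X.basicOpen g :=
    (X.mem_basicOpen g (i w) hxU).2 (IsLocalization.map_units (X.presheaf.stalk (i w)) (⟨g, hgq⟩ : q.primeCompl))
  refine ⟨⟨X.basicOpen g, hU.basicOpen g⟩, hwg, isClosedImmersion_res i _, ?_⟩
  let ρ := ((𝟙 X : X ⟶ X).appLE U (X.basicOpen g) (X.basicOpen_le g)).hom
  letI : Algebra Γ(X, U) Γ(X, X.basicOpen g) := ρ.toAlgebra
  haveI : IsLocalization.Away g Γ(X, X.basicOpen g) := by
    have h1 := hU.isLocalization_basicOpen g
    convert h1 using 2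
  let eg := IsLocalization.algEquiv (Submonoid.powers g) (Localization.Away g) Γ(X, X.basicOpen g)
  refine ⟨f.map (algebraMap Γ(X, U) Γ(X, X.basicOpen g)), by simpa using hflen, ?_, ?_⟩
  · rw [← hmap eg]
    exact (eg.toRingEquiv.toAddEquiv.isRegular_congr (List.forall₂_map_right_iff.mpr
      (List.forall₂_same.mpr fun r _ x => map_mul eg r x))).1 hgreg
  · obtain ⟨-, hk⟩ := RelDivLib.closed_and_ker_pullback (IsPullback.id_horiz i) hU hc (hU.basicOpen g)
      (show X.basicOpen g ≤ (𝟙 X) ⁻¹ᵁ U from X.basicOpen_le g)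
    rw [hk]
    show K.map (algebraMap Γ(X, U) Γ(X, X.basicOpen g)) = _
    rw [← eg.toAlgHom.comp_algebraMap, ← Ideal.map_map, ← hgspan,
      Ideal.map_ofList, List.map_map]
    rfl

/-- The quotient presentation of the functions on a closed subscheme. -/
theorem nonempty_quot_equiv {A C : Type u} [CommRing A] [CommRing C] (φ : A →+* C) (hφ : Function.Surjective φ) :
    letI := φ.toModule
    Nonempty ((A ⧸ RingHom.ker φ) ≃ₗ[A] C) := by
  letI := φ.toModule
  let q : (A ⧸ RingHom.ker φ) ≃+* C := RingHom.quotientKerEquivOfSurjective hφ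
  refine ⟨{ q.toAddEquiv with map_smul' := fun r x => ?_ }⟩
  obtain ⟨x, rfl⟩ := Ideal.Quotient.mk_surjective x
  show q (r • Ideal.Quotient.mk _ x) = φ r * q (Ideal.Quotient.mk _ x)
  rw [show (r • Ideal.Quotient.mk (RingHom.ker φ) x) = Ideal.Quotient.mk _ (r * x) from rfl]
  exact map_mul φ r x

theorem subsingleton_tor_inter (hCM : ∀ x : X, LocCoh.IsCohenMacaulayLocalRing (X.presheaf.stalk x))
    (hY : RegImm.IsRegularImmersionOfCodim RegImm.Kind.regular a iY)
    (hZ : RegImm.IsRegularImmersionOfCodim RegImm.Kind.regular b iZ)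
    (hcodim : ∀ w : ↥(pullback iY iZ), ((a + b : ℕ) : WithBot ℕ∞) ≤
      ringKrullDim (X.presheaf.stalk ((pullback.fst iY iZ ≫ iY).base w)))
    {U : X.Opens} (hU : IsAffineOpen U) (n : ℕ) :
    Subsingleton (DRing.Tor Γ(X, U) (n + 1) (Γ(X, U) ⧸ RingHom.ker (iY.app U).hom)
      (Γ(X, U) ⧸ RingHom.ker (iZ.app U).hom)) := by
  set I := RingHom.ker (iY.app U).hom
  set J := RingHom.ker (iZ.app U).hom
  set T := DRing.Tor Γ(X, U) (n + 1) (Γ(X, U) ⧸ I) (Γ(X, U) ⧸ J)
  refine subsingleton_of_forall_eq 0 fun t => ?_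
  by_contra ht
  have hne : LinearMap.ker (LinearMap.toSpanSingleton Γ(X, U) T t) ≠ ⊤ := fun h => ht (by
    simpa using (h ▸ Submodule.mem_top : (1 : Γ(X, U)) ∈ LinearMap.ker (LinearMap.toSpanSingleton Γ(X, U) T t)))
  obtain ⟨m, hm, hle⟩ := Ideal.exists_le_maximal _ hne
  let p : Spec Γ(X, U) := ⟨m, hm.isPrime⟩
  let x := hU.fromSpec p
  have hxU : x ∈ U := fromSpec_mem hU p
  letI : Algebra Γ(X, U) (X.presheaf.stalk x) := TopCat.Presheaf.algebra_section_stalk X.presheaf ⟨x, hxU⟩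
  haveI := hU.isLocalization_stalk ⟨x, hxU⟩
  have hpx : (hU.primeIdealOf ⟨x, hxU⟩).asIdeal = m := by rw [primeIdealOf_fromSpec hU p]
  haveI := hCM x
  haveI : IsNoetherianRing (X.presheaf.stalk x) := inferInstance
  haveI : Module.Flat Γ(X, U) (X.presheaf.stalk x) :=
    IsLocalization.flat _ (hU.primeIdealOf ⟨x, hxU⟩).asIdeal.primeCompl
  obtain ⟨e⟩ := FlatCx.tor_baseChange (A := Γ(X, U)) (B := X.presheaf.stalk x) (Γ(X, U) ⧸ I) (Γ(X, U) ⧸ J) (n + 1)
  have hsub : Subsingleton (DRing.Tor (X.presheaf.stalk x) (n + 1)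
      (TensorProduct Γ(X, U) (X.presheaf.stalk x) (Γ(X, U) ⧸ I))
      (TensorProduct Γ(X, U) (X.presheaf.stalk x) (Γ(X, U) ⧸ J))) := by
    by_cases hxY : x ∈ Set.range iY
    · by_cases hxZ : x ∈ Set.range iZ
      · obtain ⟨rs, ts, -, -, hrs, hreg, hmem, hI, hJ⟩ := exists_transversal iY iZ hCM hY hZ hcodim hU x hxU hxY hxZ
        have eI : TensorProduct Γ(X, U) (X.presheaf.stalk x) (Γ(X, U) ⧸ I) ≃ₗ[X.presheaf.stalk x]
            X.presheaf.stalk x ⧸ Ideal.ofList rs :=
          (Algebra.TensorProduct.quotIdealMapEquivTensorQuot (X.presheaf.stalk x) I).symm.toLinearEquiv.trans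
            (Submodule.quotEquivOfEq _ _ hI)
        have eJ : TensorProduct Γ(X, U) (X.presheaf.stalk x) (Γ(X, U) ⧸ J) ≃ₗ[X.presheaf.stalk x]
            X.presheaf.stalk x ⧸ Ideal.ofList ts :=
          (Algebra.TensorProduct.quotIdealMapEquivTensorQuot (X.presheaf.stalk x) J).symm.toLinearEquiv.trans
            (Submodule.quotEquivOfEq _ _ hJ)
        haveI := subsingleton_tor ts rs (fun r hr => hmem r (List.mem_append_right _ hr)) hrs hreg n
        exact (FlatCx.torCongr eI.toModuleIso eJ.toModuleIso (n + 1)).toLinearEquiv.subsingleton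
      · haveI : Subsingleton (TensorProduct Γ(X, U) (X.presheaf.stalk x) (Γ(X, U) ⧸ J)) := by
          have hJm : ¬ J ≤ m := fun h => hxZ ((mem_range_iff iZ hU p).2 h)
          obtain ⟨r, hr, hrm⟩ := SetLike.not_le_iff_exists.1 hJm
          have htop : J.map (algebraMap Γ(X, U) (X.presheaf.stalk x)) = ⊤ :=
            Ideal.eq_top_of_isUnit_mem _ (Ideal.mem_map_of_mem _ hr)
              (IsLocalization.map_units (X.presheaf.stalk x)
                (⟨r, by show r ∉ (hU.primeIdealOf ⟨x, hxU⟩).asIdeal; rw [hpx]; exact hrm⟩ :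
                  (hU.primeIdealOf ⟨x, hxU⟩).asIdeal.primeCompl))
          haveI := Ideal.Quotient.subsingleton_iff.2 htop
          exact (Algebra.TensorProduct.quotIdealMapEquivTensorQuot (X.presheaf.stalk x) J).symm.toEquiv.subsingleton
        obtain ⟨e'⟩ := TorLib.tor_symm (A := X.presheaf.stalk x) (n + 1)
          (TensorProduct Γ(X, U) (X.presheaf.stalk x) (Γ(X, U) ⧸ I))
          (TensorProduct Γ(X, U) (X.presheaf.stalk x) (Γ(X, U) ⧸ J))
        haveI := TorLib.subsingleton_tor_of_flat (A := X.presheaf.stalk x)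
          (TensorProduct Γ(X, U) (X.presheaf.stalk x) (Γ(X, U) ⧸ J))
          (TensorProduct Γ(X, U) (X.presheaf.stalk x) (Γ(X, U) ⧸ I)) n
        exact e'.toEquiv.subsingleton
    · haveI : Subsingleton (TensorProduct Γ(X, U) (X.presheaf.stalk x) (Γ(X, U) ⧸ I)) := by
        have hIm : ¬ I ≤ m := fun h => hxY ((mem_range_iff iY hU p).2 h)
        obtain ⟨r, hr, hrm⟩ := SetLike.not_le_iff_exists.1 hIm
        have htop : I.map (algebraMap Γ(X, U) (X.presheaf.stalk x)) = ⊤ :=
          Ideal.eq_top_of_isUnit_mem _ (Ideal.mem_map_of_mem _ hr)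
            (IsLocalization.map_units (X.presheaf.stalk x)
              (⟨r, by show r ∉ (hU.primeIdealOf ⟨x, hxU⟩).asIdeal; rw [hpx]; exact hrm⟩ :
                (hU.primeIdealOf ⟨x, hxU⟩).asIdeal.primeCompl))
        haveI := Ideal.Quotient.subsingleton_iff.2 htop
        exact (Algebra.TensorProduct.quotIdealMapEquivTensorQuot (X.presheaf.stalk x) I).symm.toEquiv.subsingleton
      exact TorLib.subsingleton_tor_of_flat _ _ n
  haveI := e.toEquiv.subsingleton
  obtain ⟨s, hs⟩ := (IsLocalizedModule.eq_zero_iff (hU.primeIdealOf ⟨x, hxU⟩).asIdeal.primeCompl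
    (TensorProduct.mk Γ(X, U) (X.presheaf.stalk x) T 1)).1
    (Subsingleton.elim (TensorProduct.mk Γ(X, U) (X.presheaf.stalk x) T 1 t) 0)
  exact s.2 (hpx.ge (hle (show (s : Γ(X, U)) ∈ LinearMap.ker (LinearMap.toSpanSingleton Γ(X, U) T t) from hs)))

end Groth.Agent.CMInterLib
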